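import Cfsg.Agent.Lib.ChevGen2.Field
import Cfsg.Agent.Lib.Chev.RelD4
import Cfsg.Agent.Lib.Chev.RootD4
import Cfsg.Agent.Lib.Chev.RelF4
import Cfsg.Agent.Lib.Chev.RootF4

/-!
# Two generators for `D₄(q)`, `F₄(q)`
-/

namespace Cfsg.Agent.Lib.Chev.TwoGen

open Cfsg.Lie

variable {F : Type*} [Field F]

set_option maxRecDepth 100000

theorem two_gen_D4_big [Fintype F] (hq : 2 < Fintype.card F) : ∃ a b : ↥(chevD4.group F), Subgroup.closure ({a, b} : Set ↥(chevD4.group F)) = ⊤ :=
  design1G (T := TabD4.T) (X := TabD4.X) (R := RootD4T.R) ⟨RelD4.checks, RootD4.checks⟩ hq (w := [0, 1, 2, 3]) (by decide) (l := 1) (s := 2) (l1 := 14) (s1 := 2) (k1 := 2) (k2 := 0) (γ := 4)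
    (by decide +kernel) (by decide +kernel) (by decide +kernel) (by decide +kernel) (by decide +kernel) (by decide +kernel) (by decide +kernel) (by decide +kernel)
    (by decide +kernel) (by decide +kernel) (by decide +kernel) (by decide +kernel) (by decide +kernel)
    [(14,24),(22,24),(5,24),(9,24),(1,24),(14,22),(23,24),(17,24),(4,24),(0,24),(6,24)]
    (by decide +kernel) (by decide +kernel) (by decide +kernel) (by decide +kernel)
    [(2,24),(8,24),(10,24),(21,24),(15,24),(2,22),(12,24),(3,24),(7,24),(11,24),(20,24)]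
    (by decide +kernel)

theorem two_gen_F4_big [Fintype F] (hq : 2 < Fintype.card F) : ∃ a b : ↥(chevF4.group F), Subgroup.closure ({a, b} : Set ↥(chevF4.group F)) = ⊤ :=
  design1G (T := TabF4.T) (X := TabF4.X) (R := RootF4T.R) ⟨RelF4.checks, RootF4.checks⟩ hq (w := [0, 1, 2, 3]) (by decide) (l := 0) (s := 3) (l1 := 15) (s1 := 3) (k1 := 1) (k2 := 0) (γ := 6)
    (by decide +kernel) (by decide +kernel) (by decide +kernel) (by decide +kernel) (by decide +kernel) (by decide +kernel) (by decide +kernel) (by decide +kernel)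
    (by decide +kernel) (by decide +kernel) (by decide +kernel) (by decide +kernel) (by decide +kernel)
    [(15,48),(21,48),(41,48),(45,48),(46,48),(47,48),(32,48),(26,48),(6,48),(2,48),(1,48),(15,47),(42,48),(30,48),(43,48),(31,48),(25,48),(24,48),(5,48),(17,48),(4,48),(16,48),(22,48)]
    (by decide +kernel) (by decide +kernel) (by decide +kernel) (by decide +kernel)
    [(3,48),(7,48),(8,48),(18,48),(34,48),(37,48),(44,48),(40,48),(39,48),(29,48),(13,48),(3,37),(11,48),(33,48),(27,48),(35,48),(38,48),(28,48),(36,48),(14,48),(20,48),(12,48),(9,48)]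
    (by decide +kernel)

theorem two_gen_F4_two [Fintype F] (hq : Fintype.card F = 2) : ∃ a b : ↥(chevF4.group F), Subgroup.closure ({a, b} : Set ↥(chevF4.group F)) = ⊤ :=
  design_two_one (T := TabF4.T) (X := TabF4.X) (R := RootF4T.R) ⟨RelF4.checks, RootF4.checks⟩ hq (w₁ := [0, 1]) (w₂ := [2, 3]) (by decide) (by decide) (r₁ := 0) (r₂ := 3)
    (by decide +kernel) (by decide +kernel) (by decide +kernel) (by decide +kernel) (by decide +kernel) (by decide +kernel)
    [(0,49),(3,48),(2,48),(2,49),(7,48),(15,48),(15,49),(8,49),(4,49),(16,48),(16,49),(9,48),(9,49),(5,49),(21,49),(17,48),(18,48),(18,49),(10,48),(25,48),(25,49),(22,49),(11,49),(20,48),(19,48),(41,48),(41,49),(23,49),(13,48),(34,48),(34,49),(30,49),(43,48),(43,49),(33,48),(35,48),(35,49),(32,49),(45,49),(27,49),(37,49),(36,48),(46,49),(28,49),(39,48),(44,48)]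
    (by decide +kernel)

theorem two_gen_D4_two [Fintype F] (hq : Fintype.card F = 2) : ∃ a b : ↥(chevD4.group F), Subgroup.closure ({a, b} : Set ↥(chevD4.group F)) = ⊤ :=
  design_two_three (T := TabD4.T) (X := TabD4.X) (R := RootD4T.R) ⟨RelD4.checks, RootD4.checks⟩ hq (w₁ := [0, 1]) (w₂ := [1, 2, 1, 3]) (by decide) (by decide)
    (a₁ := 6) (a₂ := 1) (a₃ := 0) (b₁ := 4) (b₂ := 0) (b₃ := 3) (k := 0) (c := -1)
    (by decide +kernel) (by decide +kernel) (by decide +kernel) (by decide +kernel) (by decide +kernel) (by decide +kernel) (by decide +kernel) (by decide +kernel) (by decide +kernel)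
    (by decide +kernel) (by decide +kernel) (by decide +kernel) (by decide +kernel) (by decide +kernel)
    [(0,24),(0,25),(6,24),(6,25),(3,24),(3,25),(1,25),(16,24),(16,25),(8,24),(4,24),(5,24),(5,25),(13,24),(12,24),(11,25),(18,24),(9,24),(2,24),(21,25),(20,24),(19,25),(7,24)]
    (by decide +kernel)

theorem two_gen_D4 [Fintype F] : ∃ a b : ↥(chevD4.group F), Subgroup.closure ({a, b} : Set ↥(chevD4.group F)) = ⊤ := by
  by_cases h : Fintype.card F = 2
  · exact two_gen_D4_two h
  · have h1 := Fintype.one_lt_card (α := F)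
    exact two_gen_D4_big (by omega)

theorem two_gen_F4 [Fintype F] : ∃ a b : ↥(chevF4.group F), Subgroup.closure ({a, b} : Set ↥(chevF4.group F)) = ⊤ := by
  by_cases h : Fintype.card F = 2
  · exact two_gen_F4_two h
  · have h1 := Fintype.one_lt_card (α := F)
    exact two_gen_F4_big (by omega)

end Cfsg.Agent.Lib.Chev.TwoGen
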