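import Cfsg.Agent.Lib.ChevGen2.Design
import Cfsg.Agent.Lib.Chev.RelE6
import Cfsg.Agent.Lib.Chev.RootE6
import Cfsg.Agent.Lib.Chev.RelE7
import Cfsg.Agent.Lib.Chev.RootE7
import Cfsg.Agent.Lib.Chev.RelE8
import Cfsg.Agent.Lib.Chev.RootE8

/-!
# Two generators for `E₆(q)`, `E₇(q)`, `E₈(q)`
-/

namespace Cfsg.Agent.Lib.Chev.TwoGen

open Cfsg.Lie

variable {F : Type*} [Field F]

set_option maxRecDepth 100000

theorem two_gen_E6 [Fintype F] : ∃ a b : ↥(chevE6.group F), Subgroup.closure ({a, b} : Set ↥(chevE6.group F)) = ⊤ :=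
  design0 (T := TabE6.T) (X := TabE6.X) (R := RootE6T.R) ⟨RelE6.checks, RootE6.checks⟩ (w := [0, 1, 2, 3, 4, 5]) (by decide) (l := 2) (γ := 6) (k := 1) (l1 := 17)
    (by decide +kernel) (by decide +kernel) (by decide +kernel) (by decide +kernel)
    [(17,72),(31,72),(33,72),(62,72),(68,72),(53,72),(66,72),(45,72),(14,72),(21,72),(7,72),(17,68),(57,72),(50,72),(64,72),(69,72),(54,72),(40,72),(38,72),(9,72),(3,72),(18,72),(5,72),(17,53),(35,72),(63,72),(43,72),(48,72),(60,72),(15,72),(29,72),(24,72),(12,72),(19,72),(32,72),(17,50),(30,72),(61,72),(67,72),(71,72),(70,72),(55,72),(41,72),(10,72),(4,72),(0,72),(1,72),(17,43),(22,72),(46,72),(58,72),(51,72),(65,72),(44,72),(49,72),(25,72),(13,72),(20,72),(6,72),(17,70),(59,72),(52,72),(39,72),(37,72),(36,72),(8,72),(28,72),(23,72),(11,72),(56,72),(42,72)]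
    (by decide +kernel)

theorem two_gen_E7 [Fintype F] : ∃ a b : ↥(chevE7.group F), Subgroup.closure ({a, b} : Set ↥(chevE7.group F)) = ⊤ :=
  design0 (T := TabE7.T) (X := TabE7.X) (R := RootE7T.R) ⟨RelE7.checks, RootE7.checks⟩ (w := [0, 1, 2, 3, 4, 5, 6]) (by decide) (l := 3) (γ := 8) (k := 3) (l1 := 54)
    (by decide +kernel) (by decide +kernel) (by decide +kernel) (by decide +kernel)
    [(54,126),(57,126),(100,126),(110,126),(120,126),(115,126),(122,126),(117,126),(91,126),(71,126),(68,126),(25,126),(15,126),(5,126),(10,126),(3,126),(8,126),(54,115),(109,126),(119,126),(125,126),(124,126),(123,126),(118,126),(92,126),(72,126),(26,126),(16,126),(6,126),(0,126),(1,126),(2,126),(7,126),(33,126),(53,126),(54,117),(111,126),(87,126),(106,126),(114,126),(89,126),(70,126),(67,126),(65,126),(24,126),(14,126),(38,126),(19,126),(11,126),(36,126),(55,126),(58,126),(60,126),(54,118),(113,126),(88,126),(107,126),(76,126),(82,126),(47,126),(30,126),(41,126),(21,126),(12,126),(37,126),(18,126),(49,126),(43,126),(78,126),(95,126),(84,126),(54,92),(86,126),(69,126),(66,126),(64,126),(63,126),(23,126),(51,126),(45,126),(28,126),(39,126),(56,126),(59,126),(61,126),(62,126),(102,126),(74,126),(80,126),(54,88),(83,126),(103,126),(112,126),(121,126),(116,126),(90,126),(108,126),(77,126),(31,126),(42,126),(22,126),(13,126),(4,126),(9,126),(35,126),(17,126),(48,126),(54,76),(73,126),(79,126),(96,126),(85,126),(105,126),(75,126),(81,126),(98,126),(32,126),(52,126),(46,126),(29,126),(40,126),(20,126),(50,126),(44,126),(27,126)]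
    (by decide +kernel)

theorem two_gen_E8 [Fintype F] : ∃ a b : ↥(chevE8.group F), Subgroup.closure ({a, b} : Set ↥(chevE8.group F)) = ⊤ :=
  design0 (T := TabE8.T) (X := TabE8.X) (R := RootE8T.R) ⟨RelE8.checks, RootE8.checks⟩ (w := [0, 1, 2, 3, 4, 5, 6, 7]) (by decide) (l := 0) (γ := 13) (k := 4) (l1 := 78)
    (by decide +kernel) (by decide +kernel) (by decide +kernel) (by decide +kernel)
    [(78,240),(105,240),(169,240),(184,240),(204,240),(226,240),(234,240),(235,240),(236,240),(237,240),(238,240),(239,240),(224,240),(218,240),(203,240),(161,240),(134,240),(70,240),(55,240),(35,240),(13,240),(5,240),(4,240),(3,240),(2,240),(1,240),(0,240),(15,240),(21,240),(78,239),(227,240),(219,240),(233,240),(232,240),(225,240),(231,240),(223,240),(217,240),(202,240),(160,240),(133,240),(129,240),(69,240),(54,240),(34,240),(12,240),(20,240),(6,240),(7,240),(14,240),(8,240),(16,240),(22,240),(37,240),(79,240),(106,240),(110,240),(170,240),(185,240),(78,224),(194,240),(210,240),(229,240),(221,240),(215,240),(200,240),(213,240),(199,240),(1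58,240),(132,240),(128,240),(125,240),(68,240),(53,240),(33,240),(45,240),(29,240),(10,240),(18,240),(24,240),(39,240),(26,240),(40,240),(81,240),(107,240),(111,240),(114,240),(171,240),(186,240),(78,218),(178,240),(191,240),(209,240),(196,240),(156,240),(181,240),(193,240),(155,240),(131,240),(127,240),(124,240),(122,240),(67,240),(52,240),(87,240),(61,240),(48,240),(30,240),(43,240),(83,240),(58,240),(46,240),(84,240),(108,240),(112,240),(115,240),(117,240),(172,240),(187,240),(78,203),(166,240),(150,240),(177,240),(137,240),(144,240),(167,240),(151,240),(130,240),(126,240),(123,240),(121,240),(120,240),(66,240),(103,240),(96,240),(73,240),(89,240),(62,240),(102,240),(95,240),(72,240),(88,240),(109,240),(113,240),(116,240),(118,240),(119,240),(173,240),(136,240),(78,223),(188,240),(207,240),(228,240),(220,240),(214,240),(230,240),(222,240),(216,240),(201,240),(159,240),(183,240),(140,240),(76,240),(92,240),(65,240),(51,240),(32,240),(11,240),(19,240),(25,240),(9,240),(17,240),(23,240),(38,240),(80,240),(56,240),(99,240),(163,240)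,(147,240),(78,217),(175,240),(189,240),(208,240),(195,240),(211,240),(197,240),(212,240),(198,240),(157,240),(182,240),(139,240),(146,240),(98,240),(75,240),(91,240),(64,240),(50,240),(31,240),(44,240),(28,240),(42,240),(27,240),(41,240),(82,240),(57,240),(100,240),(93,240),(141,240),(164,240),(78,202),(165,240),(149,240),(176,240),(190,240),(153,240),(179,240),(192,240),(154,240),(180,240),(138,240),(145,240),(168,240),(77,240),(104,240),(97,240),(74,240),(90,240),(63,240),(49,240),(86,240),(60,240),(47,240),(85,240),(59,240),(101,240),(94,240),(71,240),(162,240),(135,240)]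
    (by decide +kernel)

end Cfsg.Agent.Lib.Chev.TwoGen
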